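import Groth.Agent.SchFinG.Points
import Groth.Agent.SpecDense.Valuation
import Groth.Agent.FpqcDescent.Sep
import Groth.Prelude.Def_ega3

/-!
# Étale universally closed morphisms with constant fibre rank are separated
-/

set_option autoImplicit false
set_option linter.style.haveILetI false
set_option backward.isDefEq.respectTransparency false

universe u

open CategoryTheory CategoryTheory.Limits AlgebraicGeometry

noncomputable section

namespace Groth.Agent.EtSepCount

variable {T S : Scheme.{u}} (f : T ⟶ S)

/-- Two sections of an unramified morphism over a local scheme agreeing at the closed point agree. -/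
theorem ext_closed [FormallyUnramified f] [LocallyOfFiniteType f] {R : Type u} [CommRing R] [IsLocalRing R]
    {Q : Scheme.{u}} (g : Q ⟶ Spec (CommRingCat.of R)) (hg : IsLocalRing.closedPoint R ∈ Set.range g.base)
    (a b : Spec (CommRingCat.of R) ⟶ T) (hab : a ≫ f = b ≫ f) (h : g ≫ a = g ≫ b) : a = b := by
  let l := pullback.lift a b hab
  let e := pullback.fst l (pullback.diagonal f)
  have hfac : (g ≫ l) = (g ≫ a) ≫ pullback.diagonal f := by
    apply pullback.hom_ext
    · simp [l]
    · simp [l, h]
  obtain ⟨q, hq⟩ := hg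
  have hmem : IsLocalRing.closedPoint R ∈ Set.range e.base := by
    refine ⟨(pullback.lift g (g ≫ a) hfac).base q, ?_⟩
    rw [← Scheme.Hom.comp_apply, pullback.lift_fst, hq]
  haveI : IsOpenImmersion (pullback.diagonal f) := inferInstance
  have htop : e.opensRange = ⊤ := IsLocalRing.closed_point_mem_iff.1 hmem
  haveI : IsIso e := by
    haveI : Surjective e := ⟨fun x => (SetLike.ext_iff.1 htop x).2 trivial⟩
    exact (isIso_iff_isOpenImmersion_and_surjective e).2 ⟨inferInstance, inferInstance⟩
  have key : e ≫ a = e ≫ b := by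
    have h2 := pullback.condition (f := l) (g := pullback.diagonal f)
    have h3 := congrArg (fun φ => φ ≫ pullback.fst f f) h2
    have h4 := congrArg (fun φ => φ ≫ pullback.snd f f) h2
    simp only [Category.assoc, l, pullback.lift_fst, pullback.lift_snd, pullback.diagonal_fst,
      pullback.diagonal_snd, Category.comp_id] at h3 h4
    exact h3.trans h4.symm
  exact (cancel_epi e).1 key

variable [Etale f] [QuasiCompact f]

/-- Geometric points over a point: their number is the rank of the fibre. -/
theorem finite_and_card_points {K : Type u} [Field K] [IsAlgClosed K] (ξ : Spec (CommRingCat.of K) ⟶ S)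
    (d : ℕ) (hd : ∀ s : S, Module.finrank (S.residueField s) Γ(f.fiber s, ⊤) = d) :
    Finite {a : Spec (CommRingCat.of K) ⟶ T // a ≫ f = ξ} ∧
      Nat.card {a : Spec (CommRingCat.of K) ⟶ T // a ≫ f = ξ} = d := by
  obtain ⟨⟨s, φ⟩, rfl⟩ : ∃ p, (Scheme.SpecToEquivOfField K S).symm p = ξ :=
    ⟨_, (Scheme.SpecToEquivOfField K S).symm_apply_apply ξ⟩
  show Finite {a // a ≫ f = Spec.map φ ≫ S.fromSpecResidueField s} ∧
    Nat.card {a // a ≫ f = Spec.map φ ≫ S.fromSpecResidueField s} = d
  let q := f.fiberToSpecResidueField s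
  haveI : LocallyQuasiFinite f := FpqcDescent.locallyQuasiFinite_of_etale f
  haveI : IsFinite q := inferInstance
  haveI : Etale q := inferInstanceAs (Etale (pullback.snd f (S.fromSpecResidueField s)))
  haveI : IsAffine (f.fiber s) := isAffine_of_isAffineHom q
  let A := Γ(f.fiber s, ⊤)
  let κ := S.residueField s
  letI : Algebra κ K := φ.hom.toAlgebra
  let e := (f.fiber s).isoSpec
  have hq : q = e.hom ≫ Spec.map (CommRingCat.ofHom (algebraMap κ A)) := by
    have h := Scheme.toSpecΓ_naturality q
    have h2 : CommRingCat.ofHom (algebraMap κ A) = (Scheme.ΓSpecIso κ).inv ≫ q.appTop := rfl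
    rw [h2, Spec.map_comp, ← Category.assoc]
    show q = ((f.fiber s).toSpecΓ ≫ Spec.map q.appTop) ≫ Spec.map (Scheme.ΓSpecIso κ).inv
    rw [← h, Category.assoc, toSpecΓ_SpecMap_ΓSpecIso_inv, Category.comp_id]
  have hq' : Spec.map (CommRingCat.ofHom (algebraMap κ A)) = e.inv ≫ q := by rw [hq, Iso.inv_hom_id_assoc]
  haveI : Algebra.Etale κ A := RingHom.etale_algebraMap.1 ((HasRingHomProperty.Spec_iff (P := @Etale)).1
    (by rw [hq']; infer_instance : Etale (Spec.map (CommRingCat.ofHom (algebraMap κ A)))))
  haveI : Module.Finite κ A := RingHom.finite_algebraMap.1 ((IsFinite.SpecMap_iff _).1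
    (by rw [hq']; infer_instance : IsFinite (Spec.map (CommRingCat.ofHom (algebraMap κ A)))))
  let E : (A →ₐ[κ] K) ≃ {a : Spec (CommRingCat.of K) ⟶ T // a ≫ f = Spec.map φ ≫ S.fromSpecResidueField s} :=
    { toFun := fun ψ => ⟨(Spec.map (CommRingCat.ofHom (R := A) (S := K) ψ.toRingHom) ≫ e.inv) ≫ f.fiberι s, by
        have hc : f.fiberι s ≫ f = q ≫ S.fromSpecResidueField s := pullback.condition
        rw [Category.assoc, hc, Category.assoc, ← Category.assoc e.inv, ← hq', ← Category.assoc, ← Spec.map_comp]
        congr 2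
        ext c
        exact ψ.commutes c⟩
      invFun := fun a =>
        { (Spec.preimage (pullback.lift a.1 (Spec.map φ) a.2 ≫ e.hom)).hom with
          commutes' := fun c => by
            have h : CommRingCat.ofHom (algebraMap κ A) ≫ Spec.preimage (pullback.lift a.1 (Spec.map φ) a.2 ≫ e.hom) = φ := by
              apply Spec.map_injective
              rw [Spec.map_comp, Spec.map_preimage, hq', Category.assoc, Iso.hom_inv_id_assoc]
              exact pullback.lift_snd _ _ _
            exact congrArg (fun m => m.hom c) h }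
      left_inv := fun ψ => by
        refine AlgHom.ext fun x => ?_
        have h : pullback.lift ((Spec.map (CommRingCat.ofHom (R := A) (S := K) ψ.toRingHom) ≫ e.inv) ≫ f.fiberι s) (Spec.map φ)
            (by
              have hc : f.fiberι s ≫ f = q ≫ S.fromSpecResidueField s := pullback.condition
              rw [Category.assoc, hc, Category.assoc, ← Category.assoc e.inv, ← hq', ← Category.assoc, ← Spec.map_comp]
              congr 2
              ext c
              exact ψ.commutes c) = Spec.map (CommRingCat.ofHom (R := A) (S := K) ψ.toRingHom) ≫ e.inv := by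
          apply pullback.hom_ext
          · exact pullback.lift_fst _ _ _
          · rw [pullback.lift_snd, Category.assoc]
            show _ = Spec.map (CommRingCat.ofHom (R := A) (S := K) ψ.toRingHom) ≫ e.inv ≫ q
            rw [← hq', ← Spec.map_comp]
            congr 1
            ext c
            exact (ψ.commutes c).symm
        dsimp at h ⊢
        simp only [Category.assoc] at h ⊢
        simp only [h, Category.assoc, Iso.inv_hom_id, Category.comp_id, Spec.preimage_map]
        rfl
      right_inv := fun a => Subtype.ext (by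
        show (Spec.map (Spec.preimage (pullback.lift a.1 (Spec.map φ) a.2 ≫ e.hom)) ≫ e.inv) ≫ f.fiberι s = a.1
        rw [Spec.map_preimage, Category.assoc, Category.assoc, Iso.hom_inv_id_assoc]
        exact pullback.lift_fst _ _ _) }
  have hcard : Nat.card (A →ₐ[κ] K) = d := by
    rw [SchFinG.natCard_algHom ⟨⊥, Ideal.isPrime_bot⟩ ((RingHom.injective_iff_ker_eq_bot _).1 (algebraMap κ K).injective).symm,
      Module.rankAtStalk_eq_finrank_of_free]
    exact hd s
  exact ⟨Finite.of_equiv _ E, (Nat.card_congr E).symm.trans hcard⟩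

/-- The valuative uniqueness. -/
theorem isSeparated [QuasiSeparated f] [UniversallyClosed f]
    (d : ℕ) (hd : ∀ s : S, Module.finrank (S.residueField s) Γ(f.fiber s, ⊤) = d) : IsSeparated f := by
  apply IsSeparated.of_valuativeCriterion
  rintro ⟨R, K, i₁, i₂, ⟨w⟩⟩
  refine ⟨fun l₁ l₂ => ?_⟩
  obtain ⟨a, ha₁, ha₂⟩ := l₁
  obtain ⟨b, hb₁, hb₂⟩ := l₂
  suffices a = b by subst this; rfl
  let L := AlgebraicClosure K
  let j₀ : R →+* L := (algebraMap K L).comp (algebraMap R K)
  have hj₀ : Function.Injective j₀ := (algebraMap K L).injective.comp (IsFractionRing.injective R K)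
  obtain ⟨B, hB⟩ := LocalSubring.exists_le_valuationSubring (LocalSubring.range j₀)
  obtain ⟨hBle, hBloc⟩ := hB
  let j : R →+* B := (Subring.inclusion hBle).comp j₀.rangeRestrict
  haveI : IsLocalHom j := by
    refine ⟨fun r hr => ?_⟩
    haveI := hBloc
    have h1 : IsUnit (j₀.rangeRestrict r) := IsUnit.of_map (Subring.inclusion hBle) _ hr
    exact (isUnit_map_iff (RingEquiv.ofBijective j₀.rangeRestrict
      ⟨fun x y h => hj₀ (congrArg Subtype.val h), j₀.rangeRestrict_surjective⟩) r).1 h1
  have hclosed : IsLocalRing.closedPoint R ∈ Set.range (Spec.map (CommRingCat.ofHom j)).base :=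
    ⟨IsLocalRing.closedPoint B, IsLocalRing.comap_closedPoint j⟩
  refine ext_closed f _ hclosed a b (ha₂.trans hb₂.symm) ?_
  let σ := Spec.map (CommRingCat.ofHom j) ≫ i₂
  let gen := Spec.map (CommRingCat.ofHom (algebraMap B L))
  let res := Spec.map (CommRingCat.ofHom (IsLocalRing.residue B))
  haveI := SpecDense.isAlgClosed_residue B
  let LW := {x : Spec (CommRingCat.of B) ⟶ T // x ≫ f = σ}
  let Rg : LW → {x : Spec (CommRingCat.of L) ⟶ T // x ≫ f = gen ≫ σ} :=
    fun x => ⟨gen ≫ x.1, by rw [Category.assoc, x.2]⟩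
  let Rc : LW → {x : Spec (CommRingCat.of (IsLocalRing.ResidueField B)) ⟶ T // x ≫ f = res ≫ σ} :=
    fun x => ⟨res ≫ x.1, by rw [Category.assoc, x.2]⟩
  obtain ⟨hfg, hcg⟩ := finite_and_card_points f (gen ≫ σ) d hd
  obtain ⟨hfc, hcc⟩ := finite_and_card_points f (res ≫ σ) d hd
  have hinj : Function.Injective Rc := fun x y h => Subtype.ext
    (ext_closed f res ⟨IsLocalRing.closedPoint _, IsLocalRing.comap_closedPoint (IsLocalRing.residue B)⟩ x.1 y.1
      (x.2.trans y.2.symm) (congrArg Subtype.val h))
  haveI : Finite LW := Finite.of_injective Rc hinj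
  have hsurj : Function.Surjective Rg := fun z => by
    have hex : ValuativeCriterion.Existence f := by
      have h := ‹UniversallyClosed f›
      rw [UniversallyClosed.eq_valuativeCriterion] at h
      exact h.1
    obtain ⟨l⟩ := (hex ⟨B, L, z.1, σ, ⟨z.2⟩⟩).exists_lift
    exact ⟨⟨l.l, l.fac_right⟩, Subtype.ext l.fac_left⟩
  have hbij : Function.Bijective Rg := hsurj.bijective_of_nat_card_le
    ((Nat.card_le_card_of_injective Rc hinj).trans (le_of_eq (hcc.trans hcg.symm)))
  have hcomm : ∀ x : Spec (CommRingCat.of R) ⟶ T, Spec.map (CommRingCat.ofHom (algebraMap R K)) ≫ x = i₁ →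
      gen ≫ Spec.map (CommRingCat.ofHom j) ≫ x = Spec.map (CommRingCat.ofHom (algebraMap K L)) ≫ i₁ := by
    intro x hx
    rw [← hx, ← Category.assoc, ← Category.assoc]
    show (Spec.map _ ≫ Spec.map _) ≫ x = (Spec.map _ ≫ Spec.map _) ≫ x
    rw [← Spec.map_comp, ← Spec.map_comp]
    rfl
  exact congrArg Subtype.val (hbij.1 (a₁ := ⟨Spec.map (CommRingCat.ofHom j) ≫ a, by rw [Category.assoc, ha₂]⟩)
    (a₂ := ⟨Spec.map (CommRingCat.ofHom j) ≫ b, by rw [Category.assoc, hb₂]⟩)
    (Subtype.ext ((hcomm a ha₁).trans (hcomm b hb₁).symm)))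

end Groth.Agent.EtSepCount
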